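import Mathlib
import Groth.Agent.SerreReg.Regular
import Groth.Agent.SerreReg.Descent
import Groth.Agent.ResExt.Completion

/-! Regularity of power series rings and completions. -/

set_option autoImplicit false
universe u v

open IsLocalRing

namespace Groth.Agent.RegTrans

theorem isRegularRing_of_maximal {S : Type u} [CommRing S] [IsNoetherianRing S]
    (h : ∀ (M : Ideal S) [M.IsMaximal], IsRegularLocalRing (Localization.AtPrime M)) :
    IsRegularRing S := by
  refine isRegularRing_iff.mpr fun p hp => ?_
  obtain ⟨M, hM, hpM⟩ := Ideal.exists_le_maximal p hp.ne_top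
  haveI := h M
  haveI := Groth.Agent.SerreReg.isRegularRing_of_isRegularLocalRing (Localization.AtPrime M)
  have disj : Disjoint (M.primeCompl : Set S) (p : Set S) :=
    Set.disjoint_left.mpr fun a ha hap => ha (hpM hap)
  let q := p.map (algebraMap S (Localization.AtPrime M))
  have : q.IsPrime := IsLocalization.isPrime_of_isPrime_disjoint M.primeCompl _ _ hp disj
  have : IsLocalization.AtPrime (Localization.AtPrime q) p := by
    convert IsLocalization.isLocalization_isLocalization_atPrime_isLocalization M.primeCompl
      (Localization.AtPrime q) q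
    exact (IsLocalization.under_map_of_isPrime_disjoint M.primeCompl _ hp disj).symm
  exact IsRegularLocalRing.of_ringEquiv (IsLocalization.algEquiv p.primeCompl
    (Localization.AtPrime q) (Localization.AtPrime p)).toRingEquiv

theorem isRegularRing_of_quot {S A : Type u} [CommRing S] [CommRing A] [IsNoetherianRing S]
    [IsRegularRing A] (π : S →+* A) (hπ : Function.Surjective π) (x : S)
    (hker : RingHom.ker π = Ideal.span {x}) (hx : IsSMulRegular S x)
    (hjac : x ∈ (⊥ : Ideal S).jacobson) : IsRegularRing S := by
  refine isRegularRing_of_maximal fun M hM => ?_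
  have hxM : x ∈ M := (Ideal.mem_sInf.mp hjac ⟨bot_le, hM⟩ : x ∈ M)
  have hk : RingHom.ker π ≤ M := by rw [hker, Ideal.span_le]; simpa using hxM
  let m := M.map π
  haveI : m.IsPrime := Ideal.map_isPrime_of_surjective hπ hk
  have hc : M = m.comap π := by
    rw [Ideal.comap_map_of_surjective π hπ]
    exact (sup_eq_left.mpr hk).symm
  let φ := Localization.localRingHom M m π hc
  have hφ : Function.Surjective φ := fun z => by
    obtain ⟨a, s, rfl⟩ := IsLocalization.exists_mk'_eq m.primeCompl z
    obtain ⟨a, rfl⟩ := hπ a
    obtain ⟨t, ht⟩ := hπ s.1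
    have htM : t ∈ M.primeCompl := fun h => s.2 (ht ▸ Ideal.mem_map_of_mem π h)
    refine ⟨IsLocalization.mk' _ a ⟨t, htM⟩, ?_⟩
    rw [Localization.localRingHom_mk']
    exact congrArg _ (Subtype.ext ht)
  have hkφ : RingHom.ker φ = Ideal.span {algebraMap S (Localization.AtPrime M) x} := by
    refine le_antisymm (fun z hz => ?_) ?_
    · obtain ⟨f, s, rfl⟩ := IsLocalization.exists_mk'_eq M.primeCompl z
      rw [RingHom.mem_ker, Localization.localRingHom_mk', IsLocalization.mk'_eq_zero_iff] at hz
      obtain ⟨c, hc'⟩ := hz
      obtain ⟨t, ht⟩ := hπ c.1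
      have htM : t ∈ M.primeCompl := fun h => c.2 (ht ▸ Ideal.mem_map_of_mem π h)
      have : t * f ∈ RingHom.ker π := by rw [RingHom.mem_ker, map_mul, ht]; exact hc'
      rw [hker] at this
      refine (Ideal.mul_unit_mem_iff_mem _ (IsLocalization.map_units _ (⟨t, htM⟩ : M.primeCompl))).mp ?_
      refine (Ideal.mul_unit_mem_iff_mem _ (IsLocalization.map_units _ s)).mp ?_
      rw [mul_right_comm, IsLocalization.mk'_spec, ← map_mul, mul_comm, ← Set.image_singleton, ← Ideal.map_span]
      exact Ideal.mem_map_of_mem _ this
    · rw [Ideal.span_le, Set.singleton_subset_iff, SetLike.mem_coe, RingHom.mem_ker,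
        Localization.localRingHom_to_map]
      have : π x = 0 := by rw [← RingHom.mem_ker, hker]; exact Ideal.mem_span_singleton_self x
      rw [this, map_zero]
  haveI : IsRegularLocalRing (Localization.AtPrime m) := IsRegularRing.isRegularLocalRing_localization m
  haveI : IsRegularLocalRing (Localization.AtPrime M ⧸ Ideal.span {algebraMap S (Localization.AtPrime M) x}) :=
    IsRegularLocalRing.of_ringEquiv
      (((Ideal.quotEquivOfEq hkφ.symm).trans (RingHom.quotientKerEquivOfSurjective hφ)).symm)
  refine Groth.Agent.SerreReg.isRegularLocalRing_of_quot (x := algebraMap S (Localization.AtPrime M) x) ?_ ?_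
  · rw [← Localization.AtPrime.map_eq_maximalIdeal]; exact Ideal.mem_map_of_mem _ hxM
  · exact IsSMulRegular.of_flat hx

theorem isRegularRing_powerSeries (A : Type u) [CommRing A] [IsRegularRing A] :
    IsRegularRing (PowerSeries A) := by
  refine isRegularRing_of_quot (PowerSeries.constantCoeff (R := A)) (fun a => ⟨PowerSeries.C a, by simp⟩) PowerSeries.X ?_ ?_ ?_
  · ext f
    rw [RingHom.mem_ker, Ideal.mem_span_singleton, PowerSeries.X_dvd_iff]
  · intro f g h
    exact PowerSeries.X_mul_cancel h
  · rw [Ideal.mem_jacobson_bot]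
    intro y
    rw [PowerSeries.isUnit_iff_constantCoeff]
    simp

theorem isRegularRing_mvPowerSeries (A : Type u) [CommRing A] [IsRegularRing A] (n : ℕ) :
    IsRegularRing (MvPowerSeries (Fin n) A) := by
  induction n with
  | zero => exact IsRegularRing.of_ringEquiv (MvPowerSeries.isEmptyEquiv A (σ := Fin 0)).toRingEquiv.symm
  | succ n ih =>
    haveI := isRegularRing_powerSeries (MvPowerSeries (Fin n) A)
    exact IsRegularRing.of_ringEquiv (MvPowerSeries.finSuccEquiv A n).toRingEquiv.symm

theorem isRegularRing_adicCompletion (A : Type u) [CommRing A] [IsRegularRing A] (J : Ideal A) :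
    IsRegularRing (AdicCompletion J A) := by
  have hJ : J.FG := IsNoetherian.noetherian J
  haveI := Groth.Agent.ResExt.isNoetherianRing_adicCompletion J hJ
  haveI : Module.Flat A (AdicCompletion J A) := AdicCompletion.flat_of_isNoetherian J
  refine isRegularRing_of_maximal fun M hM => ?_
  let B := AdicCompletion J A
  haveI : IsAdicComplete J B := AdicCompletion.isAdicComplete hJ
  haveI : IsAdicComplete (J.map (algebraMap A B)) B :=
    (IsAdicComplete.map_algebraMap_iff _ _).2 inferInstance
  have hJM : J.map (algebraMap A B) ≤ M :=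
    (IsAdicComplete.le_jacobson_bot _).trans (fun y hy => Ideal.mem_sInf.mp hy ⟨bot_le, hM⟩)
  let m := M.comap (algebraMap A B)
  have hsub : ∀ y : B, ∃ a : A, y - algebraMap A B a ∈ J.map (algebraMap A B) := fun y => by
    obtain ⟨a, ha⟩ := Ideal.Quotient.mk_surjective (AdicCompletion.evalOneₐ J y)
    refine ⟨a, ?_⟩
    rw [← AdicCompletion.ker_evalOneₐ_eq_map J hJ, RingHom.mem_ker, map_sub, sub_eq_zero]
    exact ha.symm.trans (AlgHom.commutes (AdicCompletion.evalOneₐ J) a).symm
  have hMm : M = m.map (algebraMap A B) := by
    refine le_antisymm (fun y hy => ?_) Ideal.map_comap_le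
    obtain ⟨a, ha⟩ := hsub y
    have ha' : a ∈ m := Ideal.mem_comap.mpr (by simpa using sub_mem hy (hJM ha))
    have hJm : J ≤ m := fun j hj => hJM (Ideal.mem_map_of_mem _ hj)
    simpa using add_mem (Ideal.map_mono hJm ha) (Ideal.mem_map_of_mem (algebraMap A B) ha')
  haveI : M.LiesOver m := ⟨rfl⟩
  haveI : IsRegularLocalRing (Localization.AtPrime m) := IsRegularRing.isRegularLocalRing_localization m
  have hh : m.height ≤ M.height := by
    rw [Ideal.height_eq_height_add_of_liesOver_of_hasGoingDown m (P := M)]
    exact le_self_add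
  let φ := Localization.localRingHom m M (algebraMap A B) rfl
  have hmax : maximalIdeal (Localization.AtPrime M) = (maximalIdeal (Localization.AtPrime m)).map φ := by
    rw [← Localization.AtPrime.map_eq_maximalIdeal, ← Localization.AtPrime.map_eq_maximalIdeal,
      Ideal.map_map]
    refine (congrArg (Ideal.map (algebraMap B (Localization.AtPrime M))) hMm).trans ?_
    rw [Ideal.map_map]
    congr 1
    ext a
    exact (Localization.localRingHom_to_map m M (algebraMap A B) rfl a).symm
  have fg' := (maximalIdeal (Localization.AtPrime m)).fg_of_isNoetherianRing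
  have hfin := Submodule.FG.finite_generators fg'
  have hr : ((maximalIdeal (Localization.AtPrime m)).spanFinrank : WithBot ℕ∞) = ringKrullDim (Localization.AtPrime m) :=
    (isRegularLocalRing_iff _).mp ‹_›
  apply IsRegularLocalRing.of_spanFinrank_maximalIdeal_le
  calc ((maximalIdeal (Localization.AtPrime M)).spanFinrank : WithBot ℕ∞)
      ≤ ((maximalIdeal (Localization.AtPrime m)).spanFinrank : WithBot ℕ∞) := by
        rw [Nat.cast_le, hmax]
        conv_lhs => rw [← (maximalIdeal (Localization.AtPrime m)).span_generators]
        rw [Ideal.map_span, ← Submodule.FG.generators_ncard fg']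
        exact (Submodule.spanFinrank_span_le_ncard_of_finite (hfin.image _)).trans (Set.ncard_image_le hfin)
    _ = ringKrullDim (Localization.AtPrime m) := hr
    _ ≤ ringKrullDim (Localization.AtPrime M) := by
        rw [IsLocalization.AtPrime.ringKrullDim_eq_height m, IsLocalization.AtPrime.ringKrullDim_eq_height M]
        exact WithBot.coe_le_coe.mpr hh

end Groth.Agent.RegTrans
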